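import Cfsg.Agent.H352.Cod.Kill

/-!
# The elimination of the sporadic candidates by the degrees of `S_n` (helper352, S4941)
-/

set_option autoImplicit false
set_option linter.unusedSectionVars false

universe u

namespace Cfsg.Agent.H352.Cod

open Cfsg

variable {k : ℕ} {S : Type u} [Group S] [Finite S]

theorem no_M12_11 (h : Cand 11 k 95040 S) : False :=
  h.kill_part 11 0 210 (by norm_num) (by norm_num) (by decide +kernel) rfl (by norm_num)
    (by decide +kernel)

theorem no_M12_12 (h : Cand 12 k 95040 S) : False :=
  h.kill_part 11 1 2520 (by norm_num) (by norm_num) (by decide +kernel) rfl (by norm_num)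
    (by decide +kernel)

theorem no_M22_11 (h : Cand 11 k 443520 S) : False :=
  h.kill_part 11 0 45 (by norm_num) (by norm_num) (by decide +kernel) rfl (by norm_num)
    (by decide +kernel)

theorem no_M22_12 (h : Cand 12 k 443520 S) : False :=
  h.kill_part 11 1 540 (by norm_num) (by norm_num) (by decide +kernel) rfl (by norm_num)
    (by decide +kernel)

theorem no_M22_13 (h : Cand 13 k 443520 S) : False :=
  h.kill_part 11 2 7020 (by norm_num) (by norm_num) (by decide +kernel) rfl (by norm_num)
    (by decide +kernel)

theorem no_M22_14 (h : Cand 14 k 443520 S) : False :=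
  h.kill_part 11 3 98280 (by norm_num) (by norm_num) (by decide +kernel) rfl (by norm_num)
    (by decide +kernel)

theorem no_J2_12 (h : Cand 12 k 604800 S) : False :=
  h.kill_full 3 396 (by norm_num) (by norm_num) (by decide +kernel) (by decide +kernel)

theorem no_J2_13 (h : Cand 13 k 604800 S) : False :=
  h.kill_full 2 5148 (by norm_num) (by norm_num) (by decide +kernel) (by decide +kernel)

theorem no_J2_14 (h : Cand 14 k 604800 S) : False :=
  h.kill_full 7 72072 (by norm_num) (by norm_num) (by decide +kernel) (by decide +kernel)

theorem no_HS_16 (h : Cand 16 k 44352000 S) : False :=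
  h.kill_part 11 5 235872 (by norm_num) (by norm_num) (by decide +kernel) rfl (by norm_num)
    (by decide +kernel)

theorem no_HS_17 (h : Cand 17 k 44352000 S) : False :=
  h.kill_part 11 6 4009824 (by norm_num) (by norm_num) (by decide +kernel) rfl (by norm_num)
    (by decide +kernel)

theorem no_McL_17 (h : Cand 17 k 898128000 S) : False :=
  h.kill_part 11 6 198016 (by norm_num) (by norm_num) (by decide +kernel) rfl (by norm_num)
    (by decide +kernel)

theorem no_McL_18 (h : Cand 18 k 898128000 S) : False :=
  h.kill_part 11 7 3564288 (by norm_num) (by norm_num) (by decide +kernel) rfl (by norm_num)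
    (by decide +kernel)

theorem no_McL_19 (h : Cand 19 k 898128000 S) : False :=
  h.kill_part 11 8 67721472 (by norm_num) (by norm_num) (by decide +kernel) rfl (by norm_num)
    (by decide +kernel)

theorem no_Suz_21 (h : Cand 21 k 448345497600 S) : False :=
  h.kill_full 3 56977200 (by norm_num) (by norm_num) (by decide +kernel) (by decide +kernel)

theorem no_Suz_22 (h : Cand 22 k 448345497600 S) : False :=
  h.kill_part 13 9 1253498400 (by norm_num) (by norm_num) (by decide +kernel) rfl (by norm_num)
    (by decide +kernel)

theorem no_Suz_23 (h : Cand 23 k 448345497600 S) : False :=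
  h.kill_part 13 10 28830463200 (by norm_num) (by norm_num) (by decide +kernel) rfl (by norm_num)
    (by decide +kernel)

theorem no_Co3_23 (h : Cand 23 k 495766656000 S) : False :=
  h.kill_part 23 0 26072766720 (by norm_num) (by norm_num) (by decide +kernel) rfl (by norm_num)
    (by decide +kernel)

theorem no_Co2_23 (h : Cand 23 k 42305421312000 S) : False :=
  h.kill_part 23 0 305540235 (by norm_num) (by norm_num) (by decide +kernel) rfl (by norm_num)
    (by decide +kernel)

theorem no_Co2_24 (h : Cand 24 k 42305421312000 S) : False :=
  h.kill_part 23 1 7332965640 (by norm_num) (by norm_num) (by decide +kernel) rfl (by norm_num)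
    (by decide +kernel)

theorem no_Co2_25 (h : Cand 25 k 42305421312000 S) : False :=
  h.kill_part 23 2 183324141000 (by norm_num) (by norm_num) (by decide +kernel) rfl (by norm_num)
    (by decide +kernel)

theorem no_Co2_26 (h : Cand 26 k 42305421312000 S) : False :=
  h.kill_part 23 3 4766427666000 (by norm_num) (by norm_num) (by decide +kernel) rfl (by norm_num)
    (by decide +kernel)

theorem no_Co1_24 (h : Cand 24 k 4157776806543360000 S) : False :=
  h.kill_mod 23 45 1 74613 (by norm_num) (by norm_num) (by norm_num) (by norm_num) (by decide +kernel) rfl
    (by norm_num) (by decide +kernel)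

theorem no_Co1_25 (h : Cand 25 k 4157776806543360000 S) : False :=
  h.kill_mod 23 5 2 1865325 (by norm_num) (by norm_num) (by norm_num) (by norm_num) (by decide +kernel) rfl
    (by norm_num) (by decide +kernel)

theorem no_Co1_26 (h : Cand 26 k 4157776806543360000 S) : False :=
  h.kill_part 23 3 48498450 (by norm_num) (by norm_num) (by decide +kernel) rfl (by norm_num)
    (by decide +kernel)

theorem no_Co1_27 (h : Cand 27 k 4157776806543360000 S) : False :=
  h.kill_part 23 4 1309458150 (by norm_num) (by norm_num) (by decide +kernel) rfl (by norm_num)
    (by decide +kernel)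

theorem no_Co1_28 (h : Cand 28 k 4157776806543360000 S) : False :=
  h.kill_part 23 5 36664828200 (by norm_num) (by norm_num) (by decide +kernel) rfl (by norm_num)
    (by decide +kernel)

theorem no_Co1_29 (h : Cand 29 k 4157776806543360000 S) : False :=
  h.kill_part 23 6 1063280017800 (by norm_num) (by norm_num) (by decide +kernel) rfl (by norm_num)
    (by decide +kernel)

theorem no_Co1_30 (h : Cand 30 k 4157776806543360000 S) : False :=
  h.kill_part 23 7 31898400534000 (by norm_num) (by norm_num) (by decide +kernel) rfl (by norm_num)
    (by decide +kernel)

theorem no_Co1_31 (h : Cand 31 k 4157776806543360000 S) : False :=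
  h.kill_part 23 8 988850416554000 (by norm_num) (by norm_num) (by decide +kernel) rfl (by norm_num)
    (by decide +kernel)

theorem no_Co1_32 (h : Cand 32 k 4157776806543360000 S) : False :=
  h.kill_part 23 9 31643213329728000 (by norm_num) (by norm_num) (by decide +kernel) rfl (by norm_num)
    (by decide +kernel)

theorem no_Fi22_24 (h : Cand 24 k 64561751654400 S) : False :=
  h.kill_part 13 11 4805077200 (by norm_num) (by norm_num) (by decide +kernel) rfl (by norm_num)
    (by decide +kernel)

theorem no_Fi22_25 (h : Cand 25 k 64561751654400 S) : False :=
  h.kill_full 3 120126930000 (by norm_num) (by norm_num) (by decide +kernel) (by decide +kernel)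

theorem no_Fi22_26 (h : Cand 26 k 64561751654400 S) : False :=
  h.kill_full 7 3123300180000 (by norm_num) (by norm_num) (by decide +kernel) (by decide +kernel)

theorem no_Fi23_27 (h : Cand 27 k 4089470473293004800 S) : False :=
  h.kill_part 23 4 1331330000 (by norm_num) (by norm_num) (by decide +kernel) rfl (by norm_num)
    (by decide +kernel)

theorem no_Fi23_28 (h : Cand 28 k 4089470473293004800 S) : False :=
  h.kill_part 23 5 37277240000 (by norm_num) (by norm_num) (by decide +kernel) rfl (by norm_num)
    (by decide +kernel)

theorem no_Fi23_29 (h : Cand 29 k 4089470473293004800 S) : False :=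
  h.kill_part 23 6 1081039960000 (by norm_num) (by norm_num) (by decide +kernel) rfl (by norm_num)
    (by decide +kernel)

theorem no_Fi23_30 (h : Cand 30 k 4089470473293004800 S) : False :=
  h.kill_part 23 7 32431198800000 (by norm_num) (by norm_num) (by decide +kernel) rfl (by norm_num)
    (by decide +kernel)

theorem no_Fi23_31 (h : Cand 31 k 4089470473293004800 S) : False :=
  h.kill_part 23 8 1005367162800000 (by norm_num) (by norm_num) (by decide +kernel) rfl (by norm_num)
    (by decide +kernel)

theorem no_Fi23_32 (h : Cand 32 k 4089470473293004800 S) : False :=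
  h.kill_part 23 9 32171749209600000 (by norm_num) (by norm_num) (by decide +kernel) rfl (by norm_num)
    (by decide +kernel)

theorem no_Fi24_36 (h : Cand 36 k 1255205709190661721292800 S) : False :=
  h.kill_part 29 7 148180224192000000 (by norm_num) (by norm_num) (by decide +kernel) rfl (by norm_num)
    (by decide +kernel)

theorem no_Fi24_37 (h : Cand 37 k 1255205709190661721292800 S) : False :=
  h.kill_part 29 8 5482668295104000000 (by norm_num) (by norm_num) (by decide +kernel) rfl (by norm_num)
    (by decide +kernel)

theorem no_Fi24_38 (h : Cand 38 k 1255205709190661721292800 S) : False :=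
  h.kill_part 29 9 208341395213952000000 (by norm_num) (by norm_num) (by decide +kernel) rfl (by norm_num)
    (by decide +kernel)

theorem no_Fi24_39 (h : Cand 39 k 1255205709190661721292800 S) : False :=
  h.kill_part 29 10 8125314413344128000000 (by norm_num) (by norm_num) (by decide +kernel) rfl (by norm_num)
    (by decide +kernel)

theorem no_HN_25 (h : Cand 25 k 273030912000000 S) : False :=
  h.kill_part 19 6 28405593216 (by norm_num) (by norm_num) (by decide +kernel) rfl (by norm_num)
    (by decide +kernel)

theorem no_HN_26 (h : Cand 26 k 273030912000000 S) : False :=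
  h.kill_part 19 7 738545423616 (by norm_num) (by norm_num) (by decide +kernel) rfl (by norm_num)
    (by decide +kernel)

theorem no_HN_27 (h : Cand 27 k 273030912000000 S) : False :=
  h.kill_part 19 8 19940726437632 (by norm_num) (by norm_num) (by decide +kernel) rfl (by norm_num)
    (by decide +kernel)

theorem no_B_47 (h : Cand 47 k 4154781481226426191177580544000000 S) : False :=
  h.kill_part 47 0 31123567229680953595693125 (by norm_num) (by norm_num) (by decide +kernel) rfl (by norm_num)
    (by decide +kernel)

theorem no_B_48 (h : Cand 48 k 4154781481226426191177580544000000 S) : False :=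
  h.kill_part 47 1 1493931227024685772593270000 (by norm_num) (by norm_num) (by decide +kernel) rfl (by norm_num)
    (by decide +kernel)

theorem no_B_49 (h : Cand 49 k 4154781481226426191177580544000000 S) : False :=
  h.kill_part 47 2 73202630124209602857070230000 (by norm_num) (by norm_num) (by decide +kernel) rfl (by norm_num)
    (by decide +kernel)

theorem no_B_50 (h : Cand 50 k 4154781481226426191177580544000000 S) : False :=
  h.kill_part 47 3 3660131506210480142853511500000 (by norm_num) (by norm_num) (by decide +kernel) rfl (by norm_num)
    (by decide +kernel)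

theorem no_B_51 (h : Cand 51 k 4154781481226426191177580544000000 S) : False :=
  h.kill_part 47 4 186666706816734487285529086500000 (by norm_num) (by norm_num) (by decide +kernel) rfl (by norm_num)
    (by decide +kernel)

theorem no_M_71 (h : Cand 71 k 808017424794512875886459904961710757005754368000000000 S) : False :=
  h.kill_part 71 0 526274906004748444241314737877875602964480000000 (by norm_num) (by norm_num) (by decide +kernel) rfl (by norm_num)
    (by decide +kernel)

theorem no_M_72 (h : Cand 72 k 808017424794512875886459904961710757005754368000000000 S) : False :=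
  h.kill_part 71 1 37891793232341887985374661127207043413442560000000 (by norm_num) (by norm_num) (by decide +kernel) rfl (by norm_num)
    (by decide +kernel)

theorem no_M_73 (h : Cand 73 k 808017424794512875886459904961710757005754368000000000 S) : False :=
  h.kill_part 71 2 2766100905960957822932350262286114169181306880000000 (by norm_num) (by norm_num) (by decide +kernel) rfl (by norm_num)
    (by decide +kernel)

theorem no_Tits_16 (h : Cand 16 k 17971200 S) : False :=
  h.kill_part 13 3 582120 (by norm_num) (by norm_num) (by decide +kernel) rfl (by norm_num)
    (by decide +kernel)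

end Cfsg.Agent.H352.Cod
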