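import Cfsg.Agent.H704.EnumP

/-!
# Enumeration of the partitions of `n` whose hook product divides a number (helper352)
-/

set_option autoImplicit false
set_option linter.unusedSectionVars false

namespace Cfsg.Agent.H352.Cod

open Cfsg.Agent.H704

/-- the number of parts larger than `j` in a decreasing list -/
noncomputable def colF (l : List ℕ) (j : ℕ) : ℕ :=
  List.rec (motive := fun _ => ℕ) 0 (fun b _ ih => cond (Nat.ble b j) 0 (Nat.succ ih)) l

/-- the product of the hook lengths of the first `j` columns of a row of length `a` on top of `l`, times `H` -/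
noncomputable def rowF (l : List ℕ) (a j : ℕ) : ℕ → ℕ :=
  Nat.rec (motive := fun _ => ℕ → ℕ) (fun H => H) (fun j ih H => ih (Nat.mul (Nat.add (Nat.sub a j) (colF l j)) H)) j

theorem colF_cons (b : ℕ) (l : List ℕ) (j : ℕ) : colF (b :: l) j = cond (Nat.ble b j) 0 (Nat.succ (colF l j)) := rfl

theorem rowF_succ (l : List ℕ) (a j H : ℕ) :
    rowF l a (j + 1) H = rowF l a j (Nat.mul (Nat.add (Nat.sub a j) (colF l j)) H) := rfl

theorem colF_eq {l : List ℕ} (hl : l.Pairwise (· ≥ ·)) (j : ℕ) : colF l j = colLen l j := by
  induction l with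
  | nil => rfl
  | cons b l ih =>
    rw [colF_cons, ih hl.of_cons]
    unfold colLen
    rw [List.countP_cons]
    by_cases h : j < b
    · have h1 : Nat.ble b j = false := by
        rw [← Bool.not_eq_true, Nat.ble_eq]
        omega
      rw [h1]
      simp [h]
    · have h1 : Nat.ble b j = true := by
        rw [Nat.ble_eq]
        omega
      rw [h1, cond_true]
      have h2 : List.countP (fun a => decide (j < a)) l = 0 := by
        rw [List.countP_eq_zero]
        intro c hc
        have := List.rel_of_pairwise_cons hl hc
        simp only [decide_eq_true_eq]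
        omega
      rw [h2]
      simp [h]

theorem rowF_eq {l : List ℕ} (hl : l.Pairwise (· ≥ ·)) (a : ℕ) : ∀ (j : ℕ) (H : ℕ), rowF l a j H =
    ((List.range j).map fun c => a - c + colLen l c).prod * H := by
  intro j
  induction j with
  | zero => intro H; simp [rowF]
  | succ j ih =>
    intro H
    rw [rowF_succ, ih, List.range_succ, List.map_append, List.prod_append, colF_eq hl]
    simp only [List.map_cons, List.map_nil, List.prod_cons, List.prod_nil, mul_one]
    show _ * ((a - j + colLen l j) * H) = _
    ring

theorem rowF_row {l : List ℕ} (hl : l.Pairwise (· ≥ ·)) (a H : ℕ) : rowF l a a H = rowHook a l * H :=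
  rowF_eq hl a a H

/-- check all the partitions `m ++ l` with `m` of sum `r` and all parts of `m` at least `b`, if
`l.sum ≤ l.length + E` (here `s = l.sum`, `t = l.length + E`) and the hook product divides `M` -/
noncomputable def goD (M : ℕ) (chk : ℕ → Bool) : ℕ → ℕ → ℕ → ℕ → ℕ → List ℕ → ℕ → Bool
  | 0, _, _, _, _, _, _ => false
  | f + 1, s, t, r, b, l, H =>
    cond (Nat.beq (Nat.mod M H) 0)
      (cond (Nat.beq r 0) (chk H) (cond (Nat.ble (Nat.succ r) b) true (cond (Nat.ble (Nat.succ t) s) true
        ((List.range (Nat.sub (Nat.succ r) b)).all fun i =>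
          goD M chk f (Nat.add s (Nat.add b i)) (Nat.succ t) (Nat.sub r (Nat.add b i)) (Nat.add b i)
            (Nat.add b i :: l) (rowF l (Nat.add b i) (Nat.add b i) H)))))
      true

theorem goD_spec (M E : ℕ) (chk : ℕ → Bool) : ∀ (m : List ℕ) (f s t r b : ℕ) (l : List ℕ) (H : ℕ),
    goD M chk f s t r b l H = true → s = l.sum → t = l.length + E →
    m.Pairwise (· ≤ ·) → (∀ a ∈ m, b ≤ a) → (∀ a ∈ m, 0 < a) → m.sum = r → H = hookProd l →
    l.Pairwise (· ≥ ·) → (∀ c ∈ l, c ≤ b) →
    ((m.reverse ++ l).tail.sum ≤ (m.reverse ++ l).tail.length + E) → hookProd (m.reverse ++ l) ∣ M →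
    chk (hookProd (m.reverse ++ l)) = true := by
  intro m
  induction m with
  | nil =>
    intro f s t r b l H h hs ht _ _ _ h4 h5 _ _ _ h10
    cases f with
    | zero => simp [goD] at h
    | succ f =>
      rw [List.sum_nil] at h4
      subst h4
      rw [List.reverse_nil, List.nil_append] at h10 ⊢
      rw [goD] at h
      have h11 : Nat.beq (Nat.mod M H) 0 = true := by
        rw [Nat.beq_eq, h5]
        exact Nat.mod_eq_zero_of_dvd h10
      rw [h11, cond_true] at h
      rw [← h5]
      exact h
  | cons a m ih =>
    intro f s t r b l H h hs ht h1 h2 h3 h4 h5 hl1 hl2 h7 h10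
    cases f with
    | zero => simp [goD] at h
    | succ f =>
      have ha : 0 < a := h3 a (by simp)
      have hb : b ≤ a := h2 a (by simp)
      rw [List.sum_cons] at h4
      have h8 : ¬ l.length + E < l.sum := by
        rw [not_lt]
        have h9 : ((a :: m).reverse ++ l).tail = ((a :: m).reverse).tail ++ l := by
          rw [List.tail_append_of_ne_nil]
          simp
        rw [h9, List.sum_append, List.length_append] at h7
        have h10 : (a :: m).reverse.tail.length ≤ (a :: m).reverse.tail.sum := by
          have h11 : ∀ c ∈ (a :: m).reverse.tail, 1 ≤ c := by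
            intro c hc
            exact h3 c (List.mem_reverse.1 (List.mem_of_mem_tail hc))
          have := List.card_nsmul_le_sum _ 1 h11
          simpa using this
        omega
      have h12 : ∀ (p : List ℕ), hookProd l ∣ hookProd (p ++ l) := by
        intro p
        induction p with
        | nil => exact dvd_rfl
        | cons c p ihp =>
          rw [List.cons_append, hookProd]
          exact ihp.mul_left _
      have h11 : Nat.beq (Nat.mod M H) 0 = true := by
        rw [Nat.beq_eq, h5]
        exact Nat.mod_eq_zero_of_dvd ((h12 _).trans h10)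
      have h13 : Nat.beq r 0 = false := by
        rw [← Bool.not_eq_true, Nat.beq_eq]
        omega
      have h14 : Nat.ble (Nat.succ r) b = false := by
        rw [← Bool.not_eq_true, Nat.ble_eq]
        omega
      have h15 : Nat.ble (Nat.succ t) s = false := by
        rw [← Bool.not_eq_true, Nat.ble_eq]
        omega
      rw [goD, h11, h13, h14, h15, cond_true, cond_false, cond_false, cond_false, List.all_eq_true] at h
      have h6 := h (a - b) (by rw [List.mem_range]; show a - b < r + 1 - b; omega)
      rw [show Nat.add b (a - b) = a by show b + (a - b) = a; omega] at h6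
      rw [List.reverse_cons, List.append_assoc, List.singleton_append] at h7 h10 ⊢
      refine ih f _ _ (r - a) a (a :: l) _ h6 ?_ ?_ h1.of_cons ?_ ?_ (by omega) ?_ ?_ ?_ h7 h10
      · rw [List.sum_cons, ← hs]
        exact Nat.add_comm _ _
      · rw [List.length_cons, ht]
        show Nat.succ _ = _
        omega
      · intro c hc; exact List.rel_of_pairwise_cons h1 hc
      · intro c hc; exact h3 c (List.mem_cons_of_mem _ hc)
      · rw [rowF_row hl1, h5, hookProd]
      · rw [List.pairwise_cons]
        exact ⟨fun c hc => (hl2 c hc).trans hb, hl1⟩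
      · intro c hc
        rcases List.mem_cons.1 hc with rfl | hc
        · exact le_rfl
        · exact (hl2 c hc).trans hb

/-- the degrees that are not divisible by `r`, if the hook product divides `M` -/
theorem check_part {M n E r d : ℕ} {chk : ℕ → Bool} (hr : r.Prime) (hrn : r ≤ n) (hE : n = r + E)
    (h : goD M chk (n + 1) 0 E n 1 [] 1 = true) (hd : IsDeg n d) (hrd : ¬ r ∣ d) {x : ℕ}
    (hx : d * M = x * n.factorial) : ∃ H : ℕ, chk H = true ∧ x * H = M := by
  obtain ⟨l, hl, he⟩ := hd
  have hd0 : 0 < d := by
    apply Nat.pos_of_ne_zero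
    rintro rfl
    exact hrd (dvd_zero r)
  have hxH : x * hookProd l = M := by
    apply Nat.eq_of_mul_eq_mul_left hd0
    rw [hx, ← he]
    ring
  have hrl : r ∣ hookProd l := by
    have h1 : r ∣ d * hookProd l := by rw [he]; exact (hr.dvd_factorial).2 hrn
    exact (hr.dvd_mul.1 h1).resolve_left hrd
  have h0 := hook_le_of_dvd hl.sorted hr hrl
  refine ⟨hookProd l, ?_, hxH⟩
  have := goD_spec M E _ l.reverse (n + 1) 0 E n 1 [] 1 h rfl (by simp) ?_ ?_ ?_ ?_ rfl (by simp) (by simp) ?_ ?_
  · simpa using this
  · rw [List.pairwise_reverse]; exact hl.sorted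
  · intro a ha; exact hl.pos a (List.mem_reverse.1 ha)
  · intro a ha; exact hl.pos a (List.mem_reverse.1 ha)
  · rw [List.sum_reverse]; exact hl.sum
  · rw [List.reverse_reverse, List.append_nil]
    have h2 := hl.sum
    have h3 := colLen_le_length l 0
    cases l with
    | nil => simp
    | cons a l =>
      rw [List.sum_cons] at h2
      rw [List.headD_cons] at h0
      rw [List.length_cons] at h3
      rw [List.tail_cons]
      omega
  · rw [List.reverse_reverse, List.append_nil, ← hxH]
    exact Dvd.intro_left _ rfl

/-- all the degrees, if the hook product divides `M` -/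
theorem check_all {M n d : ℕ} {chk : ℕ → Bool}
    (h : goD M chk (n + 1) 0 n n 1 [] 1 = true) (hd : IsDeg n d) (hd0 : 0 < d) {x : ℕ}
    (hx : d * M = x * n.factorial) : ∃ H : ℕ, chk H = true ∧ x * H = M := by
  obtain ⟨l, hl, he⟩ := hd
  have hxH : x * hookProd l = M := by
    apply Nat.eq_of_mul_eq_mul_left hd0
    rw [hx, ← he]
    ring
  refine ⟨hookProd l, ?_, hxH⟩
  have := goD_spec M n _ l.reverse (n + 1) 0 n n 1 [] 1 h rfl (by simp) ?_ ?_ ?_ ?_ rfl (by simp) (by simp) ?_ ?_
  · simpa using this
  · rw [List.pairwise_reverse]; exact hl.sorted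
  · intro a ha; exact hl.pos a (List.mem_reverse.1 ha)
  · intro a ha; exact hl.pos a (List.mem_reverse.1 ha)
  · rw [List.sum_reverse]; exact hl.sum
  · rw [List.reverse_reverse, List.append_nil]
    have h2 := hl.sum
    cases l with
    | nil => simp
    | cons a l =>
      rw [List.sum_cons] at h2
      rw [List.tail_cons]
      omega
  · rw [List.reverse_reverse, List.append_nil, ← hxH]
    exact Dvd.intro_left _ rfl

end Cfsg.Agent.H352.Cod
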