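import Cfsg.Agent.H495.Cod.Basic
import Cfsg.Agent.H352.Cod.EnumD
import Cfsg.Agent.H692.RealOver
import Cfsg.Agent.Characters.AverageRoots
import Cfsg.Agent.Characters.DegreeBounds

/-!
# Simple groups whose codegrees are codegrees of an alternating group: the elimination lemmas (helper352, S4941)
-/

set_option autoImplicit false
set_option linter.unusedSectionVars false

universe u

namespace Cfsg.Agent.H352.Cod

open Cfsg Cfsg.Agent.Characters.Core Cfsg.Agent.H686.CharKit Cfsg.Agent.H495.Cod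
open Cfsg.Agent.H704 (IsDeg)
open scoped ComplexConjugate

/-- the values of irreducible characters are algebraic integers -/
theorem integral_apply {G : Type u} [Group G] [Finite G] {χ : G → ℂ} (hχ : IsIrrCharacter G χ) (g : G) :
    IsIntegral ℤ (χ g) := by
  obtain ⟨n, ρ, hρ, rfl⟩ := hχ
  exact Characters.AverageRoots.isIntegral_character ρ g

/-- if `r` divides `|G|` exactly, there is a nontrivial character whose degree is divisible by neither `r` nor `m` -/
theorem exists_not_dvd {G : Type u} [Group G] [Finite G] {r m : ℕ} (hr : r.Prime) (hrG : r ∣ Nat.card G)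
    (hr2 : ¬ r * r ∣ Nat.card G) (hm : 1 < m) : ∃ χ : IrrCharacter G, (χ : G → ℂ) ≠ 1 ∧
      ¬ r ∣ charDegree (χ : G → ℂ) ∧ ¬ m ∣ charDegree (χ : G → ℂ) := by
  classical
  by_contra hcon
  push Not at hcon
  have := finite_irr (G := G)
  have := Fintype.ofFinite (IrrCharacter G)
  have : Fact r.Prime := ⟨hr⟩
  obtain ⟨x, hx⟩ := exists_prime_orderOf_dvd_card' r hrG
  have hx1 : ¬ IsConj x 1 := by
    intro h
    rw [isConj_comm, isConj_one_right] at h
    rw [h, orderOf_one] at hx
    exact hr.one_lt.ne hx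
  have h1 := col_orth x (1 : G)
  rw [if_neg hx1] at h1
  let o : IrrCharacter G := ⟨1, isIrr_one⟩
  rw [← Finset.add_sum_erase _ _ (Finset.mem_univ o)] at h1
  have ho : (o : G → ℂ) x * conj ((o : G → ℂ) 1) = 1 := by
    show (1 : ℂ) * conj (1 : ℂ) = 1
    simp
  rw [ho] at h1
  have hfac : (Nat.card G).factorization r = 1 := by
    have h2 : 1 ≤ (Nat.card G).factorization r := (hr.dvd_iff_one_le_factorization Nat.card_pos.ne').1 hrG
    have h3 : ¬ 2 ≤ (Nat.card G).factorization r := by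
      intro h3
      apply hr2
      rw [← pow_two]
      exact (hr.pow_dvd_iff_le_factorization Nat.card_pos.ne').2 h3
    omega
  -- the other terms
  have key : ∀ χ : IrrCharacter G, ∃ z : ℂ, IsIntegral ℤ z ∧ (χ ≠ o →
      (χ : G → ℂ) x * conj ((χ : G → ℂ) 1) = m * z) := by
    intro χ
    by_cases hχ : χ = o
    · exact ⟨0, isIntegral_zero, fun h => absurd hχ h⟩
    have hne : (χ : G → ℂ) ≠ 1 := fun h => hχ (Subtype.ext h)
    by_cases hrd : r ∣ charDegree (χ : G → ℂ)
    · refine ⟨0, isIntegral_zero, fun _ => ?_⟩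
      rw [H692.RealOver.defect_zero_vanish χ.2 r hr (by rw [hfac, pow_one]; exact hrd) (x := x) (by rw [hx])]
      simp
    · obtain ⟨c, hc⟩ := hcon χ hne hrd
      refine ⟨(c : ℂ) * (χ : G → ℂ) x, ?_, fun _ => ?_⟩
      · exact (isIntegral_natCast c).mul (integral_apply χ.2 x)
      · rw [← charDegree_irr χ, hc, Complex.conj_natCast]
        push_cast
        ring
  choose z hz hz' using key
  have h2 : ∑ χ ∈ Finset.univ.erase o, (χ : G → ℂ) x * conj ((χ : G → ℂ) 1) = m * ∑ χ ∈ Finset.univ.erase o, z χ := by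
    rw [Finset.mul_sum]
    exact Finset.sum_congr rfl fun χ hχ => hz' χ (Finset.ne_of_mem_erase hχ)
  rw [h2] at h1
  have h3 : IsIntegral ℤ (((1 : ℕ) : ℂ) / (m : ℂ)) := by
    have h4 : ((1 : ℕ) : ℂ) / (m : ℂ) = - ∑ χ ∈ Finset.univ.erase o, z χ := by
      have hm0 : (m : ℂ) ≠ 0 := by
        have : m ≠ 0 := by omega
        exact_mod_cast this
      rw [div_eq_iff hm0]
      push_cast
      linear_combination h1
    rw [h4]
    exact (IsIntegral.sum _ fun χ _ => hz χ).neg
  have h5 := Characters.DegreeBounds.nat_dvd_of_isIntegral_div (by omega : m ≠ 0) h3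
  exact hm.ne' (Nat.dvd_one.1 h5)

/-- the test for one possible degree `e` -/
def okE (N k r m e : ℕ) : Bool :=
  Nat.ble e 1 || !(Nat.beq (Nat.mod N e) 0) || Nat.ble N (Nat.mul k (Nat.mul e e)) ||
    Nat.beq (Nat.mod e r) 0 || Nat.beq (Nat.mod e m) 0

/-- the test for one number `x` equal to `e` or `2 e` -/
def chkX (N k r m x : ℕ) : Bool :=
  okE N k r m x && (!(Nat.beq (Nat.mod x 2) 0) || okE N k r m (Nat.div x 2))

/-- the test for one hook product `H` -/
def chk (N k r m H : ℕ) : Bool := chkX N k r m (Nat.div (Nat.mul 2 N) H)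

theorem okE_of {N k r m e : ℕ} (h : okE N k r m e = true) (h1 : 1 < e) (h2 : e ∣ N) (h3 : k * (e * e) < N) :
    r ∣ e ∨ m ∣ e := by
  unfold okE at h
  simp only [Bool.or_eq_true, Bool.not_eq_true'] at h
  rcases h with (((h | h) | h) | h) | h
  · have := Nat.le_of_ble_eq_true h
    omega
  · rw [← Bool.not_eq_true, Nat.beq_eq] at h
    exact absurd (Nat.mod_eq_zero_of_dvd h2) h
  · have := Nat.le_of_ble_eq_true h
    have h4 : Nat.mul k (Nat.mul e e) = k * (e * e) := rfl
    omega
  · rw [Nat.beq_eq] at h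
    exact Or.inl (Nat.dvd_of_mod_eq_zero h)
  · rw [Nat.beq_eq] at h
    exact Or.inr (Nat.dvd_of_mod_eq_zero h)

theorem chk_one {N k r m e H : ℕ} (hH : e * H = 2 * N) (hN : 0 < N) (h : chk N k r m H = true) :
    okE N k r m e = true := by
  have hH0 : 0 < H := by
    apply Nat.pos_of_ne_zero
    rintro rfl
    omega
  unfold chk chkX at h
  rw [show Nat.div (Nat.mul 2 N) H = e by
    show 2 * N / H = e
    rw [← hH]
    exact Nat.mul_div_cancel e hH0] at h
  simp only [Bool.and_eq_true] at h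
  exact h.1

theorem chk_two {N k r m e H : ℕ} (hH : (2 * e) * H = 2 * N) (hN : 0 < N) (h : chk N k r m H = true) :
    okE N k r m e = true := by
  have hH0 : 0 < H := by
    apply Nat.pos_of_ne_zero
    rintro rfl
    omega
  unfold chk chkX at h
  rw [show Nat.div (Nat.mul 2 N) H = 2 * e by
    show 2 * N / H = 2 * e
    rw [← hH]
    exact Nat.mul_div_cancel _ hH0] at h
  simp only [Bool.and_eq_true, Bool.or_eq_true, Bool.not_eq_true'] at h
  rcases h.2 with h1 | h1
  · rw [← Bool.not_eq_true, Nat.beq_eq] at h1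
    exact absurd (Nat.mod_eq_zero_of_dvd (Dvd.intro _ rfl)) h1
  · rwa [show Nat.div (2 * e) 2 = e from Nat.mul_div_cancel_left e (by norm_num)] at h1

/-- the data of a candidate -/
structure Cand (n k N : ℕ) (S : Type u) [Group S] : Prop where
  n5 : 5 ≤ n
  perf : commutator S = ⊤
  card : Nat.card S = N
  eq : aN n = k * N
  deg : ∀ χ : IrrCharacter S, (χ : S → ℂ) ≠ 1 → ADeg n (k * charDegree (χ : S → ℂ))

variable {n k N : ℕ} {S : Type u} [Group S] [Finite S]

theorem Cand.kpos (h : Cand n k N S) : 0 < k := by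
  rcases Nat.eq_zero_or_pos k with h0 | h0
  · have := h.eq
    rw [h0, zero_mul] at this
    exact absurd this (aN_pos n).ne'
  · exact h0

theorem Cand.Npos (h : Cand n k N S) : 0 < N := by
  rw [← h.card]
  exact Nat.card_pos

theorem Cand.fact (h : Cand n k N S) : n.factorial = 2 * k * N := by
  rw [← two_mul_aN (by have := h.n5; omega), h.eq, mul_assoc]

/-- the possible degrees -/
theorem Cand.facts (h : Cand n k N S) (χ : IrrCharacter S) (hχ : (χ : S → ℂ) ≠ 1) :
    1 < charDegree (χ : S → ℂ) ∧ charDegree (χ : S → ℂ) ∣ N ∧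
    k * (charDegree (χ : S → ℂ) * charDegree (χ : S → ℂ)) < N ∧
    (IsDeg n (k * charDegree (χ : S → ℂ)) ∨ IsDeg n (2 * (k * charDegree (χ : S → ℂ)))) := by
  obtain ⟨h1, h2, h3, h4⟩ := (h.deg χ hχ).facts h.n5
  have hd : charDegree (χ : S → ℂ) ∣ N := by
    rw [← h.card]
    exact H674.Codegree.charDegree_dvd_card χ.2
  refine ⟨?_, hd, ?_, h4⟩
  · by_contra hne
    apply hχ
    have h5 := charDegree_pos χ
    apply H621.SymDeg.eq_one_of_perfect h.perf χ.2
    rw [← charDegree_irr χ, show charDegree (χ : S → ℂ) = 1 by omega, Nat.cast_one]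
  · rw [h.eq] at h2
    apply Nat.lt_of_mul_lt_mul_left (a := k)
    calc k * (k * (charDegree (χ : S → ℂ) * charDegree (χ : S → ℂ)))
        = k * charDegree (χ : S → ℂ) * (k * charDegree (χ : S → ℂ)) := by ring
      _ < k * N := h2

theorem Cand.exists_one (h : Cand n k N S) {r : ℕ} (hr : r.Prime) (hrN : r ∣ N) :
    ∃ χ : IrrCharacter S, (χ : S → ℂ) ≠ 1 ∧ ¬ r ∣ charDegree (χ : S → ℂ) := by
  obtain ⟨ψ, d, h1, h2, h3, h4, -⟩ := H621.SymDeg.exists_irr_not_dvd h.perf hr (by rw [h.card]; exact hrN)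
  refine ⟨⟨ψ, h1⟩, ?_, ?_⟩
  · intro h5
    have h5' : ψ = 1 := h5
    rw [h5'] at h2
    have : (1 : ℂ) = d := h2
    have h6 : d = 1 := by exact_mod_cast this.symm
    omega
  · have h5 := charDegree_irr (⟨ψ, h1⟩ : IrrCharacter S)
    have h6 : ((⟨ψ, h1⟩ : IrrCharacter S) : S → ℂ) 1 = d := h2
    rw [h6] at h5
    have h7 : charDegree ((⟨ψ, h1⟩ : IrrCharacter S) : S → ℂ) = d := by exact_mod_cast h5
    rw [h7]
    exact h4

/-- elimination with the full list of the degrees: all possible degrees are divisible by `r` -/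
theorem Cand.kill_full (h : Cand n k N S) (r K : ℕ) (hr : r.Prime) (hrN : r ∣ N) (hK : n.factorial = 2 * K * N)
    (hgo : goD (2 * N) (chk N K r r) (n + 1) 0 n n 1 [] 1 = true) : False := by
  have hkK : k = K := by
    have h1 := h.fact
    rw [hK, mul_assoc, mul_assoc] at h1
    have h2 := Nat.eq_of_mul_eq_mul_left (by norm_num : 0 < 2) h1
    exact (Nat.eq_of_mul_eq_mul_right h.Npos h2).symm
  subst hkK
  obtain ⟨χ, hχ, hrχ⟩ := h.exists_one hr hrN
  obtain ⟨h1, h2, h3, h4⟩ := h.facts χ hχ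
  have h5 : okE N k r r (charDegree (χ : S → ℂ)) = true := by
    rcases h4 with h4 | h4
    · obtain ⟨H, g1, g2⟩ := check_all hgo h4 (Nat.mul_pos h.kpos (by omega)) (x := charDegree (χ : S → ℂ))
        (by rw [hK]; ring)
      exact chk_one g2 h.Npos g1
    · obtain ⟨H, g1, g2⟩ := check_all hgo h4 (Nat.mul_pos (by norm_num) (Nat.mul_pos h.kpos (by omega)))
        (x := 2 * charDegree (χ : S → ℂ)) (by rw [hK]; ring)
      exact chk_two g2 h.Npos g1
  rcases okE_of h5 h1 h2 h3 with h6 | h6 <;> exact hrχ h6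

/-- elimination with the degrees prime to `r` -/
theorem Cand.kill_part (h : Cand n k N S) (r E K : ℕ) (hr : r.Prime) (hrN : r ∣ N) (hK : n.factorial = 2 * K * N)
    (hE : n = r + E) (hrK : ¬ r ∣ 2 * K)
    (hgo : goD (2 * N) (chk N K r r) (n + 1) 0 E n 1 [] 1 = true) : False := by
  have hkK : k = K := by
    have h1 := h.fact
    rw [hK, mul_assoc, mul_assoc] at h1
    have h2 := Nat.eq_of_mul_eq_mul_left (by norm_num : 0 < 2) h1
    exact (Nat.eq_of_mul_eq_mul_right h.Npos h2).symm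
  subst hkK
  obtain ⟨χ, hχ, hrχ⟩ := h.exists_one hr hrN
  obtain ⟨h1, h2, h3, h4⟩ := h.facts χ hχ
  have hr1 : ¬ r ∣ 2 * (k * charDegree (χ : S → ℂ)) := by
    rw [← mul_assoc, hr.dvd_mul]
    rintro (h5 | h5)
    · exact hrK h5
    · exact hrχ h5
  have h5 : okE N k r r (charDegree (χ : S → ℂ)) = true := by
    rcases h4 with h4 | h4
    · obtain ⟨H, g1, g2⟩ := check_part hr (by omega) hE hgo h4 (fun h6 => hr1 (h6.mul_left 2))
        (x := charDegree (χ : S → ℂ)) (by rw [hK]; ring)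
      exact chk_one g2 h.Npos g1
    · obtain ⟨H, g1, g2⟩ := check_part hr (by omega) hE hgo h4 hr1
        (x := 2 * charDegree (χ : S → ℂ)) (by rw [hK]; ring)
      exact chk_two g2 h.Npos g1
  rcases okE_of h5 h1 h2 h3 with h6 | h6 <;> exact hrχ h6

/-- elimination with the degrees prime to `r` where `r` divides the order exactly -/
theorem Cand.kill_mod (h : Cand n k N S) (r m E K : ℕ) (hr : r.Prime) (hrN : r ∣ N) (hr2 : ¬ r * r ∣ N)
    (hm : 1 < m) (hK : n.factorial = 2 * K * N) (hE : n = r + E) (hrK : ¬ r ∣ 2 * K)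
    (hgo : goD (2 * N) (chk N K r m) (n + 1) 0 E n 1 [] 1 = true) : False := by
  have hkK : k = K := by
    have h1 := h.fact
    rw [hK, mul_assoc, mul_assoc] at h1
    have h2 := Nat.eq_of_mul_eq_mul_left (by norm_num : 0 < 2) h1
    exact (Nat.eq_of_mul_eq_mul_right h.Npos h2).symm
  subst hkK
  obtain ⟨χ, hχ, hrχ, hmχ⟩ := exists_not_dvd (G := S) (m := m) hr (by rw [h.card]; exact hrN)
    (by rw [h.card]; exact hr2) hm
  obtain ⟨h1, h2, h3, h4⟩ := h.facts χ hχ
  have hr1 : ¬ r ∣ 2 * (k * charDegree (χ : S → ℂ)) := by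
    rw [← mul_assoc, hr.dvd_mul]
    rintro (h5 | h5)
    · exact hrK h5
    · exact hrχ h5
  have h5 : okE N k r m (charDegree (χ : S → ℂ)) = true := by
    rcases h4 with h4 | h4
    · obtain ⟨H, g1, g2⟩ := check_part hr (by omega) hE hgo h4 (fun h6 => hr1 (h6.mul_left 2))
        (x := charDegree (χ : S → ℂ)) (by rw [hK]; ring)
      exact chk_one g2 h.Npos g1
    · obtain ⟨H, g1, g2⟩ := check_part hr (by omega) hE hgo h4 hr1
        (x := 2 * charDegree (χ : S → ℂ)) (by rw [hK]; ring)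
      exact chk_two g2 h.Npos g1
  rcases okE_of h5 h1 h2 h3 with h6 | h6
  · exact hrχ h6
  · exact hmχ h6

end Cfsg.Agent.H352.Cod
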