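import Cfsg.Agent.H352.Cod.Cases

/-!
# The sporadic candidates with the degree restriction (helper352, S4941)
-/

set_option autoImplicit false

universe u

namespace Cfsg.Agent.H352.Cod

open Cfsg Cfsg.Agent.Characters.Core Cfsg.Agent.H686.CharKit Cfsg.Agent.H495.Cod Subgroup
open Cfsg.Agent.H704 (IsDeg)

/-- the orders -/
def orders : List ℕ := [7920, 95040, 443520, 10200960, 244823040, 175560, 604800, 50232960, 86775571046077562880,
      4157776806543360000, 42305421312000, 495766656000, 898128000, 44352000, 448345497600, 4030387200, 145926144000,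
      460815505920, 51765179004000000, 64561751654400, 4089470473293004800, 1255205709190661721292800,
      273030912000000, 90745943887872000, 4154781481226426191177580544000000,
      808017424794512875886459904961710757005754368000000000, 17971200]

/-- the pairs with `2 |S|` dividing `n!` and `2 n! < |S|²` -/
def pairs : List (ℕ × ℕ) := [(95040, 11), (95040, 12), (443520, 11), (443520, 12), (443520, 13), (443520, 14), (604800, 10), (604800, 11), (604800, 12), (604800, 13), (604800, 14), (4157776806543360000, 24), (4157776806543360000, 25), (4157776806543360000, 26), (4157776806543360000, 27), (4157776806543360000, 28), (4157776806543360000, 29), (4157776806543360000, 30), (4157776806543360000, 31), (4157776806543360000, 32), (42305421312000, 23), (42305421312000, 24), (42305421312000, 25), (42305421312000, 26), (495766656000, 23), (898128000, 15), (898128000, 16), (898128000, 17), (898128000, 18), (898128000, 19), (44352000, 15), (44352000, 16), (44352000,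 17), (448345497600, 18), (448345497600, 19), (448345497600, 20), (448345497600, 21), (448345497600, 22), (448345497600, 23), (64561751654400, 21), (64561751654400, 22), (64561751654400, 23), (64561751654400, 24), (64561751654400, 25), (64561751654400, 26), (4089470473293004800, 27), (4089470473293004800, 28), (4089470473293004800, 29), (4089470473293004800, 30), (4089470473293004800, 31), (4089470473293004800, 32), (1255205709190661721292800, 36), (1255205709190661721292800, 37), (1255205709190661721292800, 38), (1255205709190661721292800, 39), (273030912000000, 25), (273030912000000, 26), (273030912000000, 27), (4154781481226426191177580544000000, 47), (4154781481226426191177580544000000, 48), (4154781481226426191177580544000000, 49), (4154781481226426191177580544000000, 50), (4154781481226426191177580544000000, 51), (808017424794512875886459904961710757005754368000000000, 71), (808017424794512875886459904961710757005754368000000000, 72), (808017424794512875886459904961710757005754368000000000,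 73), (17971200, 16)]

theorem pairs_spec : ∀ N ∈ orders, ∀ n ∈ List.range 76, 5 ≤ n → 2 * N ∣ n.factorial → 2 * n.factorial < N * N →
    (N, n) ∈ pairs := by
  decide +kernel

theorem orders_le : ∀ N ∈ orders, N * N ≤ 2 * Nat.factorial 76 := by
  decide +kernel

theorem mem_pairs {n k N : ℕ} {S : Type u} [Group S] [Finite S] (h : Cand n k N S) (hN : N ∈ orders) :
    (N, n) ∈ pairs := by
  have hn5 := h.n5
  have h1 : 2 * n.factorial < N * N := by
    have hN1 : N ≠ 1 := by
      rintro rfl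
      revert hN
      decide
    obtain ⟨p, hp, hpN⟩ := Nat.exists_prime_and_dvd hN1
    obtain ⟨χ, hχ, -⟩ := h.exists_one hp hpN
    obtain ⟨h2, -, h3, -⟩ := h.facts χ hχ
    have h4 : 4 * k < N := by
      refine lt_of_le_of_lt ?_ h3
      have : 2 * 2 ≤ charDegree (χ : S → ℂ) * charDegree (χ : S → ℂ) := Nat.mul_le_mul h2 h2
      calc 4 * k = k * (2 * 2) := by ring
        _ ≤ _ := Nat.mul_le_mul_left _ this
    rw [h.fact]
    calc 2 * (2 * k * N) = (4 * k) * N := by ring
      _ < N * N := Nat.mul_lt_mul_of_pos_right h4 h.Npos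
  have h2 : n < 76 := by
    by_contra h3
    rw [not_lt] at h3
    have h4 := Nat.factorial_le h3
    have h5 := orders_le N hN
    omega
  refine pairs_spec N hN n (List.mem_range.2 h2) hn5 ?_ h1
  rw [h.fact]
  exact ⟨k, by ring⟩

theorem spor_numeric {n k : ℕ} (hn : 5 ≤ n) {S : Type u} [Group S] [Finite S] [IsSimpleGroup S]
    (hS : ¬ ∀ a b : S, a * b = b * a)
    (hc : Nat.card S ∈ [7920, 95040, 443520, 10200960, 244823040, 175560, 604800, 50232960, 86775571046077562880,
      4157776806543360000, 42305421312000, 495766656000, 898128000, 44352000, 448345497600, 4030387200, 145926144000,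
      460815505920, 51765179004000000, 64561751654400, 4089470473293004800, 1255205709190661721292800,
      273030912000000, 90745943887872000, 4154781481226426191177580544000000,
      808017424794512875886459904961710757005754368000000000, 17971200])
    (hk : aN n = k * Nat.card S)
    (hd : ∀ χ : IrrCharacter S, (χ : S → ℂ) ≠ 1 → ADeg n (k * charDegree (χ : S → ℂ))) :
    (Nat.card S, n) ∈ [(604800, 10), (604800, 11), (44352000, 15), (898128000, 15), (898128000, 16),
      (448345497600, 18), (448345497600, 19), (448345497600, 20), (64561751654400, 21), (64561751654400, 22),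
      (64561751654400, 23)] := by
  obtain ⟨N, hN⟩ : ∃ N, N = Nat.card S := ⟨_, rfl⟩
  have h : Cand n k N S := ⟨hn, perfect_of_simple hS, hN.symm, by rw [hN]; exact hk, hd⟩
  rw [← hN] at hc ⊢
  have hp := mem_pairs h hc
  clear hc hN hk hd hn
  unfold pairs at hp
  simp only [List.mem_cons, Prod.mk.injEq, List.not_mem_nil, or_false] at hp
  rcases hp with ⟨rfl, rfl⟩ | ⟨rfl, rfl⟩ | ⟨rfl, rfl⟩ | ⟨rfl, rfl⟩ | ⟨rfl, rfl⟩ | ⟨rfl, rfl⟩ | ⟨rfl, rfl⟩ | ⟨rfl, rfl⟩ | ⟨rfl, rfl⟩ | ⟨rfl, rfl⟩ | ⟨rfl, rfl⟩ | ⟨rfl, rfl⟩ | ⟨rfl, rfl⟩ | ⟨rfl, rfl⟩ | ⟨rfl, rfl⟩ | ⟨rfl, rfl⟩ | ⟨rfl, rfl⟩ | ⟨rfl, rfl⟩ | ⟨rfl, rfl⟩ | ⟨rfl, rfl⟩ | ⟨rfl, rfl⟩ | ⟨rfl, rfl⟩ | ⟨rfl, rfl⟩ | ⟨rfl, rfl⟩ | ⟨rfl, rfl⟩ | ⟨rfl, rfl⟩ | ⟨rfl, rfl⟩ | ⟨rfl, rfl⟩ | ⟨rfl, rfl⟩ | ⟨rfl, rfl⟩ | ⟨rfl, rfl⟩ | ⟨rfl, rfl⟩ | ⟨rfl, rfl⟩ | ⟨rfl, rfl⟩ | ⟨rfl, rfl⟩ | ⟨rfl, rfl⟩ | ⟨rfl, rfl⟩ | ⟨rfl, rfl⟩ | ⟨rfl, rfl⟩ | ⟨rfl, rfl⟩ | ⟨rfl, rfl⟩ | ⟨rfl, rfl⟩ | ⟨rfl, rfl⟩ | ⟨rfl, rfl⟩ | ⟨rfl, rfl⟩ | ⟨rfl, rfl⟩ | ⟨rfl, rfl⟩ | ⟨rfl,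 rfl⟩ | ⟨rfl, rfl⟩ | ⟨rfl, rfl⟩ | ⟨rfl, rfl⟩ | ⟨rfl, rfl⟩ | ⟨rfl, rfl⟩ | ⟨rfl, rfl⟩ | ⟨rfl, rfl⟩ | ⟨rfl, rfl⟩ | ⟨rfl, rfl⟩ | ⟨rfl, rfl⟩ | ⟨rfl, rfl⟩ | ⟨rfl, rfl⟩ | ⟨rfl, rfl⟩ | ⟨rfl, rfl⟩ | ⟨rfl, rfl⟩ | ⟨rfl, rfl⟩ | ⟨rfl, rfl⟩ | ⟨rfl, rfl⟩ | ⟨rfl, rfl⟩
  · exact (no_M12_11 h).elim
  · exact (no_M12_12 h).elim
  · exact (no_M22_11 h).elim
  · exact (no_M22_12 h).elim
  · exact (no_M22_13 h).elim
  · exact (no_M22_14 h).elim
  · decide +kernel
  · decide +kernel
  · exact (no_J2_12 h).elim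
  · exact (no_J2_13 h).elim
  · exact (no_J2_14 h).elim
  · exact (no_Co1_24 h).elim
  · exact (no_Co1_25 h).elim
  · exact (no_Co1_26 h).elim
  · exact (no_Co1_27 h).elim
  · exact (no_Co1_28 h).elim
  · exact (no_Co1_29 h).elim
  · exact (no_Co1_30 h).elim
  · exact (no_Co1_31 h).elim
  · exact (no_Co1_32 h).elim
  · exact (no_Co2_23 h).elim
  · exact (no_Co2_24 h).elim
  · exact (no_Co2_25 h).elim
  · exact (no_Co2_26 h).elim
  · exact (no_Co3_23 h).elim
  · decide +kernel
  · decide +kernel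
  · exact (no_McL_17 h).elim
  · exact (no_McL_18 h).elim
  · exact (no_McL_19 h).elim
  · decide +kernel
  · exact (no_HS_16 h).elim
  · exact (no_HS_17 h).elim
  · decide +kernel
  · decide +kernel
  · decide +kernel
  · exact (no_Suz_21 h).elim
  · exact (no_Suz_22 h).elim
  · exact (no_Suz_23 h).elim
  · decide +kernel
  · decide +kernel
  · decide +kernel
  · exact (no_Fi22_24 h).elim
  · exact (no_Fi22_25 h).elim
  · exact (no_Fi22_26 h).elim
  · exact (no_Fi23_27 h).elim
  · exact (no_Fi23_28 h).elim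
  · exact (no_Fi23_29 h).elim
  · exact (no_Fi23_30 h).elim
  · exact (no_Fi23_31 h).elim
  · exact (no_Fi23_32 h).elim
  · exact (no_Fi24_36 h).elim
  · exact (no_Fi24_37 h).elim
  · exact (no_Fi24_38 h).elim
  · exact (no_Fi24_39 h).elim
  · exact (no_HN_25 h).elim
  · exact (no_HN_26 h).elim
  · exact (no_HN_27 h).elim
  · exact (no_B_47 h).elim
  · exact (no_B_48 h).elim
  · exact (no_B_49 h).elim
  · exact (no_B_50 h).elim
  · exact (no_B_51 h).elim
  · exact (no_M_71 h).elim
  · exact (no_M_72 h).elim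
  · exact (no_M_73 h).elim
  · exact (no_Tits_16 h).elim

end Cfsg.Agent.H352.Cod
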