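import Cfsg.Agent.H352.Cod.Kill
import Cfsg.Agent.H690.Spor.RankThree
import Cfsg.Agent.S1624
import Cfsg.Agent.S1680
import Cfsg.Agent.S1687
import Cfsg.Agent.SporadicRecognition.HSAssemble
import Cfsg.Agent.SporadicRecognition.McLAssemble
import Cfsg.Agent.NotCT.Orders

/-!
# The sporadic candidates of rank 3 (helper352, S4941)
-/

set_option autoImplicit false
set_option linter.unusedSectionVars false

universe u

namespace Cfsg.Agent.H352.Cod

open Cfsg Cfsg.Agent.Characters.Core Cfsg.Agent.H686.CharKit Cfsg.Agent.H495.Cod Subgroup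
open Cfsg.Agent.H704 (IsDeg)
open Cfsg.Agent.H690.Spor.RankThree

/-- two irreducible characters with the sum of the degrees `T` and the product of the degrees as in Frame's theorem -/
def HasPair (T M : ℕ) (S : Type u) [Group S] : Prop := ∃ (χ₁ χ₂ : IrrCharacter S) (f g D : ℕ),
  (χ₁ : S → ℂ) 1 = f ∧ (χ₂ : S → ℂ) 1 = g ∧ f + g = T ∧ f * g * D = M ∧ (f ≠ g → IsSquare D)

theorem HasPair.of_equiv {T M : ℕ} {S : Type u} {H : Type} [Group S] [Group H] (e : S ≃* H) (h : HasPair T M H) :
    HasPair T M S := by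
  obtain ⟨χ₁, χ₂, f, g, D, h1, h2, h3⟩ := h
  refine ⟨⟨_, isIrr_comp e.toMonoidHom e.surjective χ₁.2⟩, ⟨_, isIrr_comp e.toMonoidHom e.surjective χ₂.2⟩, f, g, D,
    ?_, ?_, h3⟩
  · show (χ₁ : H → ℂ) (e.toMonoidHom 1) = f
    rw [map_one, h1]
  · show (χ₂ : H → ℂ) (e.toMonoidHom 1) = g
    rw [map_one, h2]

theorem HasPair.of_r3 {G X : Type} [Group G] [MulAction G X] [Finite G] {R : X → X → Prop} {k l T M : ℕ}
    (h : R3 G X R k l) (hT : k + l = T) (hM : (1 + k + l) * k * l = M) : HasPair T M G := by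
  classical
  have : Finite X := Nat.finite_of_card_ne_zero (by rw [h.cardn]; omega)
  have := Fintype.ofFinite X
  obtain ⟨χ₁, χ₂, f, g, D, h1, h2, -, h3, h4, h5⟩ := h.frame
  exact ⟨χ₁, χ₂, f, g, D, h1, h2, h3.trans hT, h4.trans hM, h5⟩

/-- the test for one possible degree `e` -/
def okL (N k : ℕ) (P : List ℕ) (e : ℕ) : Bool :=
  Nat.ble e 1 || !(Nat.beq (Nat.mod N e) 0) || Nat.ble N (Nat.mul k (Nat.mul e e)) || P.elem e

/-- the test for one number `x` equal to `e` or `2 e` -/
def chkLX (N k : ℕ) (P : List ℕ) (x : ℕ) : Bool :=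
  okL N k P x && (!(Nat.beq (Nat.mod x 2) 0) || okL N k P (Nat.div x 2))

/-- the test for one hook product `H` -/
def chkL (N k : ℕ) (P : List ℕ) (H : ℕ) : Bool := chkLX N k P (Nat.div (Nat.mul 2 N) H)

theorem okL_of {N k : ℕ} {P : List ℕ} {e : ℕ} (h : okL N k P e = true) (h1 : 1 < e) (h2 : e ∣ N)
    (h3 : k * (e * e) < N) : e ∈ P := by
  unfold okL at h
  simp only [Bool.or_eq_true, Bool.not_eq_true'] at h
  rcases h with ((h | h) | h) | h
  · have := Nat.le_of_ble_eq_true h
    omega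
  · rw [← Bool.not_eq_true, Nat.beq_eq] at h
    exact absurd (Nat.mod_eq_zero_of_dvd h2) h
  · have := Nat.le_of_ble_eq_true h
    have h4 : Nat.mul k (Nat.mul e e) = k * (e * e) := rfl
    omega
  · exact List.mem_of_elem_eq_true h

theorem chkL_one {N k : ℕ} {P : List ℕ} {e H : ℕ} (hH : e * H = 2 * N) (hN : 0 < N) (h : chkL N k P H = true) :
    okL N k P e = true := by
  have hH0 : 0 < H := by
    apply Nat.pos_of_ne_zero
    rintro rfl
    omega
  unfold chkL chkLX at h
  rw [show Nat.div (Nat.mul 2 N) H = e by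
    show 2 * N / H = e
    rw [← hH]
    exact Nat.mul_div_cancel e hH0] at h
  simp only [Bool.and_eq_true] at h
  exact h.1

theorem chkL_two {N k : ℕ} {P : List ℕ} {e H : ℕ} (hH : (2 * e) * H = 2 * N) (hN : 0 < N)
    (h : chkL N k P H = true) : okL N k P e = true := by
  have hH0 : 0 < H := by
    apply Nat.pos_of_ne_zero
    rintro rfl
    omega
  unfold chkL chkLX at h
  rw [show Nat.div (Nat.mul 2 N) H = 2 * e by
    show 2 * N / H = 2 * e
    rw [← hH]
    exact Nat.mul_div_cancel _ hH0] at h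
  simp only [Bool.and_eq_true, Bool.or_eq_true, Bool.not_eq_true'] at h
  rcases h.2 with h1 | h1
  · rw [← Bool.not_eq_true, Nat.beq_eq] at h1
    exact absurd (Nat.mod_eq_zero_of_dvd (Dvd.intro _ rfl)) h1
  · rwa [show Nat.div (2 * e) 2 = e from Nat.mul_div_cancel_left e (by norm_num)] at h1

variable {n k N : ℕ} {S : Type u} [Group S] [Finite S]

/-- the list of the possible degrees -/
theorem Cand.deg_mem (h : Cand n k N S) (K : ℕ) (P : List ℕ) (hK : n.factorial = 2 * K * N)
    (hgo : goD (2 * N) (chkL N K P) (n + 1) 0 n n 1 [] 1 = true) (χ : IrrCharacter S) (hχ : (χ : S → ℂ) ≠ 1) :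
    charDegree (χ : S → ℂ) ∈ P := by
  have hkK : k = K := by
    have h1 := h.fact
    rw [hK, mul_assoc, mul_assoc] at h1
    have h2 := Nat.eq_of_mul_eq_mul_left (by norm_num : 0 < 2) h1
    exact (Nat.eq_of_mul_eq_mul_right h.Npos h2).symm
  subst hkK
  obtain ⟨h1, h2, h3, h4⟩ := h.facts χ hχ
  have h5 : okL N k P (charDegree (χ : S → ℂ)) = true := by
    rcases h4 with h4 | h4
    · obtain ⟨H, g1, g2⟩ := check_all hgo h4 (Nat.mul_pos h.kpos (by omega)) (x := charDegree (χ : S → ℂ))
        (by rw [hK]; ring)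
      exact chkL_one g2 h.Npos g1
    · obtain ⟨H, g1, g2⟩ := check_all hgo h4 (Nat.mul_pos (by norm_num) (Nat.mul_pos h.kpos (by omega)))
        (x := 2 * charDegree (χ : S → ℂ)) (by rw [hK]; ring)
      exact chkL_two g2 h.Npos g1
  exact okL_of h5 h1 h2 h3

/-- elimination by a pair of characters -/
theorem Cand.kill_pair (h : Cand n k N S) {T M : ℕ} (hp : HasPair T M S) (K : ℕ) (P : List ℕ)
    (hK : n.factorial = 2 * K * N) (hgo : goD (2 * N) (chkL N K P) (n + 1) 0 n n 1 [] 1 = true)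
    (hT : ¬ (T - 1) ∣ M) (hP : ∀ f ∈ P, ∀ g ∈ P, f + g = T → f * g ∣ M → f ≠ g ∧ ¬ IsSquare (M / (f * g))) :
    False := by
  obtain ⟨χ₁, χ₂, f, g, D, h1, h2, h3, h4, h5⟩ := hp
  have hf : charDegree (χ₁ : S → ℂ) = f := by
    have := charDegree_irr χ₁
    rw [h1] at this
    exact_mod_cast this
  have hg : charDegree (χ₂ : S → ℂ) = g := by
    have := charDegree_irr χ₂
    rw [h2] at this
    exact_mod_cast this
  have hf1 : (χ₁ : S → ℂ) ≠ 1 := by
    intro h6
    rw [h6, charDegree_one] at hf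
    apply hT
    rw [← h4, ← hf, one_mul, show T - 1 = g by omega]
    exact Dvd.intro _ rfl
  have hg1 : (χ₂ : S → ℂ) ≠ 1 := by
    intro h6
    rw [h6, charDegree_one] at hg
    apply hT
    rw [← h4, ← hg, mul_one, show T - 1 = f by omega]
    exact Dvd.intro _ rfl
  have h6 := h.deg_mem K P hK hgo χ₁ hf1
  have h7 := h.deg_mem K P hK hgo χ₂ hg1
  rw [hf] at h6
  rw [hg] at h7
  obtain ⟨h8, h9⟩ := hP f h6 g h7 h3 (by rw [← h4]; exact Dvd.intro _ rfl)
  apply h9
  have hpos : 0 < f * g := by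
    apply Nat.mul_pos
    · rw [← hf]; exact charDegree_pos χ₁
    · rw [← hg]; exact charDegree_pos χ₂
  rw [← h4, Nat.mul_div_cancel_left D hpos]
  exact h5 h8

/-! ### The pairs -/

theorem pair_j2 (h : Spor.IsoJ2 S) : HasPair 99 226800 S := by
  obtain ⟨e⟩ := h
  have : Finite Spor.J2 := Finite.of_equiv _ e.toEquiv
  obtain ⟨H, hi, -, c₁, c₂, h1, h2⟩ := S1624.result
  obtain ⟨R, hR⟩ := R3.of_index H (k := 36) (l := 63) hi h1 h2 (by norm_num) (by norm_num) (by norm_num)
  exact HasPair.of_equiv e (HasPair.of_r3 hR rfl rfl)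

theorem pair_suz (h : Spor.IsoSuz S) : HasPair 1781 1011890880 S := by
  obtain ⟨e⟩ := h
  have : Finite Spor.Suz := Finite.of_equiv _ e.toEquiv
  obtain ⟨hi, c₁, c₂, h1, h2⟩ := S1680.result
  obtain ⟨R, hR⟩ := R3.of_index _ (k := 416) (l := 1365) hi h1 h2 (by norm_num) (by norm_num) (by norm_num)
  exact HasPair.of_equiv e (HasPair.of_r3 hR rfl rfl)

theorem pair_fi22 (h : Spor.IsoFi22 S) : HasPair 3509 6849722880 S := by
  obtain ⟨e⟩ := h
  have : Finite Spor.Fi22 := Finite.of_equiv _ e.toEquiv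
  obtain ⟨hi, c₁, c₂, h1, h2⟩ := S1687.result
  obtain ⟨R, hR⟩ := R3.of_index _ (k := 693) (l := 2816) hi h1 h2 (by norm_num) (by norm_num) (by norm_num)
  exact HasPair.of_equiv e (HasPair.of_r3 hR rfl rfl)

theorem ne_of_ncard {G X : Type} [Group G] [MulAction G X] {a b : X} {k : ℕ}
    (h : (MulAction.orbit (MulAction.stabilizer G a) b).ncard = k) (hk : 1 < k) : b ≠ a := by
  rintro rfl
  have h1 : MulAction.orbit (MulAction.stabilizer G b) b = {b} := by
    ext y
    rw [Set.mem_singleton_iff]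
    constructor
    · rintro ⟨⟨g, hg⟩, hy⟩
      rw [← hy]
      exact hg
    · rintro rfl
      exact MulAction.mem_orbit_self _
  rw [h1, Set.ncard_singleton] at h
  omega

theorem pair_hs (h : Spor.IsoHS S) : HasPair 99 169400 S := by
  obtain ⟨e⟩ := h
  obtain ⟨H, Y, _, _, _, _, a, b, c, hr, hc, -, ⟨f⟩⟩ := SporadicRecognition.HSAssemble.hs_rank
  have : Finite H := Finite.of_equiv _ (e.trans f.symm).toEquiv
  exact HasPair.of_equiv (e.trans f.symm) (HasPair.of_r3 (R3.of_orbits hr.trans (ne_of_ncard hr.cb hr.hk)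
    (ne_of_ncard hr.cc hr.hl) hr.cb hr.cc hr.ne hr.cardX) rfl rfl)

theorem pair_mcl (h : Spor.IsoMcL S) : HasPair 274 4989600 S := by
  obtain ⟨e⟩ := h
  obtain ⟨H, Y, _, _, _, _, a, b, c, hr, hc, -, ⟨f⟩⟩ := SporadicRecognition.McLAssemble.mcl_rank
  have : Finite H := Finite.of_equiv _ (e.trans f.symm).toEquiv
  exact HasPair.of_equiv (e.trans f.symm) (HasPair.of_r3 (R3.of_orbits hr.trans (ne_of_ncard hr.cb hr.hk)
    (ne_of_ncard hr.cc hr.hl) hr.cb hr.cc hr.ne hr.cardX) rfl rfl)

/-! ### The eliminations -/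

theorem no_pair_j2_10 (h : Cand 10 k 604800 S) (hp : HasPair 99 226800 S) : False :=
  h.kill_pair hp 3 [3, 6, 7, 12, 14, 15, 21, 25, 28, 30, 35, 42, 48, 50, 70, 75, 84, 96, 100, 105, 128, 150, 175, 189]
    (by decide +kernel) (by decide +kernel) (by norm_num) (by decide +kernel)

theorem no_pair_j2_11 (h : Cand 11 k 604800 S) (hp : HasPair 99 226800 S) : False :=
  h.kill_pair hp 33 [2, 4, 5, 7, 9, 10, 14, 15, 18, 20, 21, 25, 28, 30, 35, 36, 40, 70]
    (by decide +kernel) (by decide +kernel) (by norm_num) (by decide +kernel)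

theorem no_pair_hs_15 (h : Cand 15 k 44352000 S) (hp : HasPair 99 169400 S) : False :=
  h.kill_pair hp 14742 [2, 4, 11, 15]
    (by decide +kernel) (by decide +kernel) (by norm_num) (by decide +kernel)

theorem no_pair_mcl_15 (h : Cand 15 k 898128000 S) (hp : HasPair 274 4989600 S) : False :=
  h.kill_pair hp 728 [22, 33, 44, 55, 77, 81, 110, 125, 154]
    (by decide +kernel) (by decide +kernel) (by norm_num) (by decide +kernel)

theorem no_pair_mcl_16 (h : Cand 16 k 898128000 S) (hp : HasPair 274 4989600 S) : False :=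
  h.kill_pair hp 11648 [3, 5, 6, 10, 22, 24, 25, 30, 44, 48, 50, 55, 60, 99]
    (by decide +kernel) (by decide +kernel) (by norm_num) (by decide +kernel)

theorem no_pair_suz_18 (h : Cand 18 k 448345497600 S) (hp : HasPair 1781 1011890880 S) : False :=
  h.kill_pair hp 7140 [16, 32, 39, 77, 78, 91, 143, 154, 182, 189, 195, 208, 224, 231, 286, 312, 351, 364, 390, 416, 429, 448, 624, 702, 715, 858, 891, 936, 1144, 1287, 1872, 2275, 2288]
    (by decide +kernel) (by decide +kernel) (by norm_num) (by decide +kernel)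

theorem no_pair_suz_19 (h : Cand 19 k 448345497600 S) (hp : HasPair 1781 1011890880 S) : False :=
  h.kill_pair hp 135660 [6, 7, 9, 12, 18, 25, 33, 39, 65, 66, 78, 81, 90, 91, 105, 117, 130, 143, 156, 162, 180, 195, 234, 312, 325, 390, 429]
    (by decide +kernel) (by decide +kernel) (by norm_num) (by decide +kernel)

theorem no_pair_suz_20 (h : Cand 20 k 448345497600 S) (hp : HasPair 1781 1011890880 S) : False :=
  h.kill_pair hp 2713200 [12, 13, 16, 20, 24, 32, 39, 40, 77]
    (by decide +kernel) (by decide +kernel) (by norm_num) (by decide +kernel)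

theorem no_pair_fi22_21 (h : Cand 21 k 64561751654400 S) (hp : HasPair 3509 6849722880 S) : False :=
  h.kill_pair hp 395675 [5, 10, 13, 20, 26, 40, 44, 88, 104, 130, 143, 156, 165, 195, 208, 220, 240, 260, 264, 286, 312, 330, 351, 390, 405, 440, 455, 480, 495, 520, 525, 528, 572, 624, 650, 702, 770, 780, 810, 840, 990, 1040, 1050, 1080, 1144, 1188, 1248, 1300, 1404, 1540, 1680, 2160, 2288, 2376]
    (by decide +kernel) (by decide +kernel) (by norm_num) (by decide +kernel)

theorem no_pair_fi22_22 (h : Cand 22 k 64561751654400 S) (hp : HasPair 3509 6849722880 S) : False :=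
  h.kill_pair hp 8704850 [2, 6, 12, 13, 21, 33, 36, 39, 48, 72, 77, 78, 91, 96, 99, 117, 156, 165, 182, 189, 192, 198, 231, 273, 462]
    (by decide +kernel) (by decide +kernel) (by norm_num) (by decide +kernel)

theorem no_pair_fi22_23 (h : Cand 23 k 64561751654400 S) (hp : HasPair 3509 6849722880 S) : False :=
  h.kill_pair hp 200211550 [3, 5, 6, 13, 15, 18, 26, 30, 33, 36, 39, 52, 75, 78, 81]
    (by decide +kernel) (by decide +kernel) (by norm_num) (by decide +kernel)

theorem rank3_elim {n k : ℕ} {S : Type u} [Group S] [Finite S] [IsSimpleGroup S]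
    (hS : Spor.IsoJ2 S ∨ Spor.IsoHS S ∨ Spor.IsoMcL S ∨ Spor.IsoSuz S ∨ Spor.IsoFi22 S)
    (hc : (Nat.card S, n) ∈ [(604800, 10), (604800, 11), (44352000, 15), (898128000, 15), (898128000, 16),
      (448345497600, 18), (448345497600, 19), (448345497600, 20), (64561751654400, 21), (64561751654400, 22),
      (64561751654400, 23)])
    (hk : aN n = k * Nat.card S)
    (hd : ∀ χ : IrrCharacter S, (χ : S → ℂ) ≠ 1 → ADeg n (k * charDegree (χ : S → ℂ))) : False := by
  obtain ⟨N, hN⟩ : ∃ N, N = Nat.card S := ⟨_, rfl⟩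
  rw [← hN] at hc
  have hn : 5 ≤ n ∧ N ∈ [604800, 44352000, 898128000, 448345497600, 64561751654400] := by
    revert hc
    simp only [List.mem_cons, Prod.mk.injEq, List.not_mem_nil, or_false]
    omega
  have hS' : ¬ ∀ a b : S, a * b = b * a := by
    intro hcomm
    have h1 : (Nat.card S).Prime := by
      let _ : CommGroup S := { mul_comm := hcomm }
      exact IsSimpleGroup.prime_card
    rw [← hN] at h1
    have h2 := hn.2
    simp only [List.mem_cons, List.not_mem_nil, or_false] at h2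
    rcases h2 with h2 | h2 | h2 | h2 | h2 <;> rw [h2] at h1 <;> revert h1 <;> norm_num
  have h : Cand n k N S := ⟨hn.1, perfect_of_simple hS', hN.symm, by rw [hN]; exact hk, hd⟩
  simp only [List.mem_cons, Prod.mk.injEq, List.not_mem_nil, or_false] at hc
  rcases hS with h0 | h0 | h0 | h0 | h0
  · have h1 := NotCT.Orders.j2 h0
    have h2 := pair_j2 h0
    rw [← hN] at h1
    subst h1
    clear hN hn
    have hn : n = 10 ∨ n = 11 := by omega
    rcases hn with rfl | rfl
    · exact no_pair_j2_10 h h2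
    · exact no_pair_j2_11 h h2
  · have h1 := NotCT.Orders.hs h0
    have h2 := pair_hs h0
    rw [← hN] at h1
    subst h1
    clear hN hn
    have hn : n = 15 := by omega
    subst hn
    exact no_pair_hs_15 h h2
  · have h1 := NotCT.Orders.mcl h0
    have h2 := pair_mcl h0
    rw [← hN] at h1
    subst h1
    clear hN hn
    have hn : n = 15 ∨ n = 16 := by omega
    rcases hn with rfl | rfl
    · exact no_pair_mcl_15 h h2
    · exact no_pair_mcl_16 h h2
  · have h1 := NotCT.Orders.suz h0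
    have h2 := pair_suz h0
    rw [← hN] at h1
    subst h1
    clear hN hn
    have hn : n = 18 ∨ n = 19 ∨ n = 20 := by omega
    rcases hn with rfl | rfl | rfl
    · exact no_pair_suz_18 h h2
    · exact no_pair_suz_19 h h2
    · exact no_pair_suz_20 h h2
  · have h1 := NotCT.Orders.fi22 h0
    have h2 := pair_fi22 h0
    rw [← hN] at h1
    subst h1
    clear hN hn
    have hn : n = 21 ∨ n = 22 ∨ n = 23 := by omega
    rcases hn with rfl | rfl | rfl
    · exact no_pair_fi22_21 h h2
    · exact no_pair_fi22_22 h h2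
    · exact no_pair_fi22_23 h h2

end Cfsg.Agent.H352.Cod
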